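import Mathlib.CategoryTheory.EffectiveEpi.Comp
import Mathlib.CategoryTheory.MorphismProperty.Limits
import Mathlib.CategoryTheory.Limits.Shapes.Pullback.HasPullback
import Mathlib.CategoryTheory.Comma.Over.Pullback
import Mathlib.CategoryTheory.Limits.Shapes.Pullback.IsPullback.Basic

/-!
# Universal effective epimorphisms
-/

universe v₁ u₁

open CategoryTheory CategoryTheory.Limits

namespace Groth.Agent.DescCatLib

variable {C : Type u₁} [Category.{v₁} C] [HasPullbacks C]

/-- Effective epimorphisms from a descent of compatible morphisms and cancellation. -/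
theorem effectiveEpi_mk {U S : C} (p : U ⟶ S)
    (h : ∀ {W : C} (e : U ⟶ W),
      (∀ {Z : C} (g₁ g₂ : Z ⟶ U), g₁ ≫ p = g₂ ≫ p → g₁ ≫ e = g₂ ≫ e) → ∃ m, p ≫ m = e)
    (hp : Epi p) : EffectiveEpi p :=
  ⟨⟨{ desc := fun e he => (h e he).choose
      fac := fun e he => (h e he).choose_spec
      uniq := fun e he m hm => (cancel_epi p).1 (hm.trans (h e he).choose_spec.symm) }⟩⟩

/-- Composites of effective epimorphisms, the first being universally epi. -/
theorem effectiveEpi_comp {U T S : C} (v : U ⟶ T) (u : T ⟶ S) [EffectiveEpi u] [EffectiveEpi v]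
    (hv : MorphismProperty.universally (MorphismProperty.epimorphisms C) v) :
    EffectiveEpi (v ≫ u) := by
  refine effectiveEpi_mk (v ≫ u) (fun {W} e he => ?_) inferInstance
  let h := EffectiveEpi.desc v e fun {Z} g₁ g₂ hg => he g₁ g₂ (by simp only [reassoc_of% hg])
  have hh : v ≫ h = e := EffectiveEpi.fac v e _
  refine ⟨EffectiveEpi.desc u h fun {Z} g₁ g₂ hg => ?_, ?_⟩
  · have e₁ : Epi (pullback.fst g₁ v) := hv _ _ _ (IsPullback.of_hasPullback g₁ v)
    have e₂ : Epi (pullback.fst (pullback.fst g₁ v ≫ g₂) v) :=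
      hv _ _ _ (IsPullback.of_hasPullback _ v)
    rw [← cancel_epi (pullback.fst g₁ v),
      ← cancel_epi (pullback.fst (pullback.fst g₁ v ≫ g₂) v)]
    have c₁ := pullback.condition (f := g₁) (g := v)
    have c₂ := pullback.condition (f := pullback.fst g₁ v ≫ g₂) (g := v)
    have c₂' := congrArg (· ≫ h) c₂
    simp only [Category.assoc] at c₂'
    rw [reassoc_of% c₁, hh, c₂', hh,
      ← Category.assoc (pullback.fst (pullback.fst g₁ v ≫ g₂) v)]
    exact he _ _ (by
      simp only [Category.assoc]
      rw [← reassoc_of% c₁, ← reassoc_of% c₂, hg])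
  · rw [Category.assoc, EffectiveEpi.fac, hh]

/-- The first factor from the right of a universal effective epimorphism. -/
theorem effectiveEpi_of_comp {U T S : C} (v : U ⟶ T) (u : T ⟶ S) [EffectiveEpi (v ≫ u)]
    (h : MorphismProperty.universally (MorphismProperty.epimorphisms C) (v ≫ u)) :
    EffectiveEpi u := by
  refine effectiveEpi_mk u (fun {W} e he => ?_) (epi_of_epi v u)
  refine ⟨EffectiveEpi.desc (v ≫ u) (v ≫ e) fun {Z} g₁ g₂ hg => ?_, ?_⟩
  · rw [← Category.assoc, ← Category.assoc g₂]
    exact he _ _ (by simpa using hg)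
  · have : Epi (pullback.fst u (v ≫ u)) := h _ _ _ (IsPullback.of_hasPullback u (v ≫ u))
    rw [← cancel_epi (pullback.fst u (v ≫ u)), ← Category.assoc,
      pullback.condition, Category.assoc, EffectiveEpi.fac, ← Category.assoc]
    exact he _ _ (by rw [Category.assoc, ← pullback.condition])

/-- Universal effective epimorphisms are universal epimorphisms. -/
theorem universally_epi {U T : C} {v : U ⟶ T}
    (hv : (MorphismProperty.universally (fun (A B : C) (p : A ⟶ B) => EffectiveEpi p)) v) :
    MorphismProperty.universally (MorphismProperty.epimorphisms C) v :=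
  fun _ _ i₁ i₂ f' H => have := hv i₁ i₂ f' H; (inferInstanceAs (Epi f'))

/-- A universal effective epimorphism is an effective epimorphism. -/
theorem effectiveEpi_of_universally {U T : C} {v : U ⟶ T}
    (hv : (MorphismProperty.universally (fun (A B : C) (p : A ⟶ B) => EffectiveEpi p)) v) :
    EffectiveEpi v :=
  hv (𝟙 U) (𝟙 T) v IsPullback.of_id_snd

/-- Universal effective epimorphisms are stable under base change. -/
theorem universally_of_isPullback {U T U' T' : C} {v : U ⟶ T} {v' : U' ⟶ T'} {i : U' ⟶ U}
    {j : T' ⟶ T} (H : IsPullback v' i j v)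
    (hv : (MorphismProperty.universally (fun (A B : C) (p : A ⟶ B) => EffectiveEpi p)) v) :
    (MorphismProperty.universally (fun (A B : C) (p : A ⟶ B) => EffectiveEpi p)) v' :=
  MorphismProperty.of_isPullback (P := MorphismProperty.universally _) H.flip hv

/-- Universal effective epimorphisms compose. -/
theorem universally_comp {U T S : C} {v : U ⟶ T} {u : T ⟶ S}
    (hv : (MorphismProperty.universally (fun (A B : C) (p : A ⟶ B) => EffectiveEpi p)) v)
    (hu : (MorphismProperty.universally (fun (A B : C) (p : A ⟶ B) => EffectiveEpi p)) u) :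
    (MorphismProperty.universally (fun (A B : C) (p : A ⟶ B) => EffectiveEpi p)) (v ≫ u) := by
  intro X' Y' i₁ i₂ f' H
  let q : X' ⟶ pullback i₂ u := pullback.lift f' (i₁ ≫ v) (by rw [H.w, Category.assoc])
  have hq : q ≫ pullback.fst i₂ u = f' := pullback.lift_fst _ _ _
  have hpb : IsPullback q i₁ (pullback.snd i₂ u) v := by
    rw [← hq] at H
    exact IsPullback.of_right H (pullback.lift_snd _ _ _) (IsPullback.of_hasPullback i₂ u)
  have := hu _ _ _ (IsPullback.of_hasPullback i₂ u)
  have : EffectiveEpi q := hv _ _ _ hpb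
  rw [← hq]
  exact effectiveEpi_comp q _ (universally_epi (universally_of_isPullback hpb hv))

/-- Universal effective epimorphisms cancel from the right. -/
theorem universally_of_comp {U T S : C} {v : U ⟶ T} {u : T ⟶ S}
    (h : (MorphismProperty.universally (fun (A B : C) (p : A ⟶ B) => EffectiveEpi p)) (v ≫ u)) :
    (MorphismProperty.universally (fun (A B : C) (p : A ⟶ B) => EffectiveEpi p)) u := by
  intro X' Y' i₁ i₂ f' H
  have hpb := (IsPullback.of_hasPullback i₁ v).paste_horiz H
  have := h _ _ _ hpb
  exact effectiveEpi_of_comp (pullback.fst i₁ v) f' (universally_epi (universally_of_isPullback hpb h))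

/-- A monomorphism which is an effective epimorphism is invertible. -/
theorem isIso_of_mono_effectiveEpi {A B : C} (g : A ⟶ B) [Mono g] [EffectiveEpi g] : IsIso g := by
  let h := EffectiveEpi.desc g (𝟙 A) fun g₁ g₂ e => by rw [(cancel_mono g).1 e]
  have hh : g ≫ h = 𝟙 A := EffectiveEpi.fac g _ _
  refine ⟨h, hh, ?_⟩
  rw [← cancel_epi g, ← Category.assoc, hh, Category.id_comp, Category.comp_id]

end Groth.Agent.DescCatLib
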