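import Mathlib.CategoryTheory.Monoidal.Cartesian.Grp_
import Mathlib.CategoryTheory.Limits.Shapes.KernelPair
import Mathlib.CategoryTheory.Limits.Shapes.Pullback.HasPullback
import Mathlib.CategoryTheory.Limits.Shapes.Pullback.IsPullback.Basic

/-!
# Kernel pairs of homomorphisms of group objects
-/

universe v₁ u₁

open CategoryTheory CategoryTheory.Limits MonoidalCategory MonObj CartesianMonoidalCategory
  SemiCartesianMonoidalCategory

namespace Groth.Agent.DescCatLib

variable {C : Type u₁} [Category.{v₁} C] [CartesianMonoidalCategory C]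

lemma isKernelPair_fst_mul_kernel [HasPullbacks C] {G G' : C} [GrpObj G] [GrpObj G'] (f : G ⟶ G')
    [IsMonHom f] :
    IsKernelPair f (fst G (pullback f η[G'])) ((G ◁ pullback.fst f η[G']) ≫ μ[G]) := by
  have hη : ∀ {Z : C}, toUnit Z ≫ η[G'] = (1 : Z ⟶ G') := fun {Z} => rfl
  have hker : pullback.fst f η[G'] ≫ f = 1 := by
    rw [pullback.condition, ← hη]
    exact congrArg (· ≫ η[G']) (toUnit_unique _ _)
  have hm : ∀ {Z : C} (m : Z ⟶ G ⊗ pullback f η[G']),
      m ≫ (G ◁ pullback.fst f η[G']) ≫ μ[G] =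
        (m ≫ fst _ _) * (m ≫ snd _ _ ≫ pullback.fst f η[G']) := by
    intro Z m
    rw [Hom.mul_def, ← Category.assoc]
    congr 1
    apply CartesianMonoidalCategory.hom_ext <;> simp
  refine ⟨⟨?_⟩, ⟨PullbackCone.IsLimit.mk _
    (fun s => lift s.fst (pullback.lift (s.fst⁻¹ * s.snd) (toUnit _) ?_)) (fun s => lift_fst _ _)
    (fun s => ?_) (fun s m h₁ h₂ => ?_)⟩⟩
  · have h := hm (𝟙 (G ⊗ pullback f η[G']))
    simp only [Category.id_comp] at h
    rw [h, MonObj.mul_comp, Category.assoc (snd G (pullback f η[G'])), hker, MonObj.comp_one, _root_.mul_one]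
  · rw [MonObj.mul_comp, hη]
    have : s.fst⁻¹ ≫ f = (s.fst ≫ f)⁻¹ :=
      eq_inv_of_mul_eq_one_left (by rw [← MonObj.mul_comp, inv_mul_cancel, MonObj.one_comp])
    rw [this, ← s.condition, inv_mul_cancel]
  · rw [hm, lift_fst, lift_snd_assoc, pullback.lift_fst, mul_inv_cancel_left]
  · apply CartesianMonoidalCategory.hom_ext
    · rw [lift_fst]
      exact h₁
    · rw [lift_snd]
      apply pullback.hom_ext
      · rw [pullback.lift_fst, ← h₁, ← h₂, hm, inv_mul_cancel_left, Category.assoc]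
      · exact toUnit_unique _ _

end Groth.Agent.DescCatLib
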